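import Groth.Prelude
import Mathlib.Topology.Sheaves.SheafCondition.UniqueGluing
import Mathlib.Topology.Sheaves.SheafCondition.Sites

/-!
Sheaves on a basis: separatedness, gluing and extension to all opens.
-/

set_option autoImplicit false
set_option backward.isDefEq.respectTransparency false
set_option backward.isDefEq.respectTransparency.types false

universe u

open TopologicalSpace CategoryTheory Opposite

namespace ShBLib

variable {X : Type u} [TopologicalSpace X] {B : Set (Opens X)} {F : ShB.Pre B}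

/-- Covering data from a set of members below a given member. -/
def mkCover (hB : Opens.IsBasis B) (V : B) (S : Set B) (hS : ∀ W ∈ S, (W : Opens X) ≤ (V : Opens X))
    (hc : ∀ x ∈ (V : Opens X), ∃ W ∈ S, x ∈ (W : Opens X)) : ShB.Cover B where
  U := V
  ι := S
  V W := W.1
  V_le W := hS W.1 W.2
  V_cover x hx := by
    obtain ⟨W, hW, hxW⟩ := hc x hx
    exact Opens.mem_iSup.mpr ⟨⟨W, hW⟩, hxW⟩
  κ W W' := {W'' : B // (W'' : Opens X) ≤ (W.1 : Opens X) ∧ (W'' : Opens X) ≤ (W'.1 : Opens X)}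
  W _ _ k := k.1
  W_le_left _ _ k := k.2.1
  W_le_right _ _ k := k.2.2
  W_cover W W' x hx := by
    obtain ⟨U, hU, hxU, hle⟩ := Opens.isBasis_iff_nbhd.mp hB (U := (W.1 : Opens X) ⊓ W'.1) hx
    exact Opens.mem_iSup.mpr ⟨⟨⟨U, hU⟩, le_inf_iff.mp hle⟩, hxU⟩

theorem res_congr {U V : B} (h h' : (V : Opens X) ≤ (U : Opens X)) (s : F.obj U) : F.res h s = F.res h' s := rfl

/-- A section of a sheaf on a basis is determined by its restrictions. -/
theorem ext_of_cover (hB : Opens.IsBasis B) (hF : ShB.IsSheaf F) {V : B} (t t' : F.obj V)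
    (h : ∀ x ∈ (V : Opens X), ∃ (W : B) (hW : (W : Opens X) ≤ (V : Opens X)), x ∈ (W : Opens X) ∧
      F.res hW t = F.res hW t') : t = t' := by
  let S : Set B := {W | ∃ hW : (W : Opens X) ≤ (V : Opens X), F.res hW t = F.res hW t'}
  let c := mkCover hB V S (fun W hW => hW.1)
    (fun x hx => by obtain ⟨W, hW, hxW, e⟩ := h x hx; exact ⟨W, ⟨hW, e⟩, hxW⟩)
  obtain ⟨t₀, -, huniq⟩ := hF c (fun W => F.res (c.V_le W) t) (fun i j k => by
    rw [F.res_comp, F.res_comp])
  exact (huniq t fun i => rfl).trans (huniq t' fun i => i.2.2.symm).symm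

/-- Compatible families glue. -/
theorem exists_glue (hB : Opens.IsBasis B) (hF : ShB.IsSheaf F) (V : B) (S : Set B)
    (hS : ∀ W ∈ S, (W : Opens X) ≤ (V : Opens X))
    (hc : ∀ x ∈ (V : Opens X), ∃ W ∈ S, x ∈ (W : Opens X)) (s : ∀ W : S, F.obj W.1)
    (hs : ∀ (W W' : S) (W'' : B) (h : (W'' : Opens X) ≤ (W.1 : Opens X)) (h' : (W'' : Opens X) ≤ (W'.1 : Opens X)),
      F.res h (s W) = F.res h' (s W')) :
    ∃ t : F.obj V, ∀ (W : B) (hW : W ∈ S), F.res (hS W hW) t = s ⟨W, hW⟩ := by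
  obtain ⟨t, ht, -⟩ := hF (mkCover hB V S hS hc) s (fun i j k => hs i j k.1 k.2.1 k.2.2)
  exact ⟨t, fun W hW => ht ⟨W, hW⟩⟩

variable (F) in
/-- Compatible families over the members below an open. -/
def ExtObj (U : Opens X) : Type u :=
  {s : ∀ V : B, (V : Opens X) ≤ U → F.obj V //
    ∀ (V V' : B) (h : (V : Opens X) ≤ U) (h' : (V' : Opens X) ≤ U) (hle : (V' : Opens X) ≤ (V : Opens X)),
      F.res hle (s V h) = s V' h'}

variable (F) in
/-- The extension to all opens. -/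
def ext : (Opens (TopCat.of X))ᵒᵖ ⥤ Type u where
  obj U := ExtObj F U.unop
  map {U U'} i := TypeCat.ofHom fun s =>
    ⟨fun V h => s.1 V (h.trans i.unop.le), fun V V' h h' hle => s.2 V V' _ _ hle⟩

theorem ext_isSheaf (hB : Opens.IsBasis B) (hF : ShB.IsSheaf F) : TopCat.Presheaf.IsSheaf (ext F) := by
  rw [TopCat.Presheaf.isSheaf_iff_isSheafUniqueGluing]
  intro ι U sf hsf
  have hagree : ∀ (i j : ι) (W : B) (h : (W : Opens X) ≤ U i) (h' : (W : Opens X) ≤ U j),
      (sf i).1 W h = (sf j).1 W h' := fun i j W h h' =>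
    congrFun (congrFun (congrArg Subtype.val (hsf i j)) W) (le_inf h h')
  let S : B → Set B := fun V => {W | (W : Opens X) ≤ (V : Opens X) ∧ ∃ i, (W : Opens X) ≤ U i}
  have hcov : ∀ V : B, (V : Opens X) ≤ iSup U → ∀ x ∈ (V : Opens X), ∃ W ∈ S V, x ∈ (W : Opens X) := by
    intro V hV x hx
    obtain ⟨i, hi⟩ := Opens.mem_iSup.mp (hV hx)
    obtain ⟨W, hW, hxW, hle⟩ := Opens.isBasis_iff_nbhd.mp hB (U := (V : Opens X) ⊓ U i) ⟨hx, hi⟩
    exact ⟨⟨W, hW⟩, ⟨(le_inf_iff.mp hle).1, i, (le_inf_iff.mp hle).2⟩, hxW⟩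
  let val : ∀ V : B, ∀ W : S V, F.obj W.1 := fun V W => (sf W.2.2.choose).1 W.1 W.2.2.choose_spec
  have hglue : ∀ (V : B) (hV : (V : Opens X) ≤ iSup U), ∃ t : F.obj V,
      ∀ (W : B) (hW : W ∈ S V), F.res hW.1 t = val V ⟨W, hW⟩ := by
    intro V hV
    refine exists_glue hB hF V (S V) (fun W hW => hW.1) (hcov V hV) (val V) ?_
    intro W W' W'' h h'
    rw [(sf W.2.2.choose).2 W.1 W'' W.2.2.choose_spec (h.trans W.2.2.choose_spec) h,
      (sf W'.2.2.choose).2 W'.1 W'' W'.2.2.choose_spec (h'.trans W'.2.2.choose_spec) h']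
    exact hagree _ _ _ _ _
  choose t ht using hglue
  have ht' : ∀ (V : B) (hV : (V : Opens X) ≤ iSup U) (W : B) (hle : (W : Opens X) ≤ (V : Opens X)) (i : ι)
      (hi : (W : Opens X) ≤ U i), F.res hle (t V hV) = (sf i).1 W hi := fun V hV W hle i hi =>
    (ht V hV W ⟨hle, i, hi⟩).trans (hagree _ _ _ _ _)
  refine ⟨⟨t, fun V V' h h' hle => ?_⟩, fun i => ?_, fun s hs => ?_⟩
  · refine ext_of_cover hB hF _ _ fun x hx => ?_
    obtain ⟨W, ⟨hWle, i, hi⟩, hxW⟩ := hcov V' h' x hx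
    refine ⟨W, hWle, hxW, ?_⟩
    rw [F.res_comp, ht' V h W (hWle.trans hle) i hi, ht' V' h' W hWle i hi]
  · refine Subtype.ext (funext fun V => funext fun hV => ?_)
    exact (F.res_id V _).symm.trans (ht' V (hV.trans (le_iSup U i)) V le_rfl i hV)
  · refine Subtype.ext (funext fun V => funext fun hV => ?_)
    refine ext_of_cover hB hF _ _ fun x hx => ?_
    obtain ⟨W, ⟨hWle, i, hi⟩, hxW⟩ := hcov V hV x hx
    refine ⟨W, hWle, hxW, ?_⟩
    refine Eq.trans ?_ (ht' V hV W hWle i hi).symm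
    rw [s.2 V W hV (hi.trans (le_iSup U i)) hWle]
    exact congrFun (congrFun (congrArg Subtype.val (hs i)) W) hi

/-- The comparison on the basis. -/
def extIso : ShB.Iso (ShB.restrict B (ext F)) F where
  hom :=
    { app := fun U s => s.1 U le_rfl
      natural := fun {U V} h s => s.2 U V le_rfl (le_rfl.trans h) h }
  inv :=
    { app := fun U t => ⟨fun V h => F.res h t, fun V V' h h' hle => F.res_comp h hle t⟩
      natural := fun {U V} h t => Subtype.ext (funext fun W => funext fun hW => (F.res_comp h hW t).symm) }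
  hom_inv U s := Subtype.ext (funext fun V => funext fun hV => s.2 U V le_rfl hV hV)
  inv_hom U t := F.res_id U t

theorem exists_ext (hB : Opens.IsBasis B) (hF : ShB.IsSheaf F) :
    ∃ G : TopCat.Sheaf (Type u) (TopCat.of X), Nonempty (ShB.Iso (ShB.restrict B G.presheaf) F) :=
  ⟨⟨ext F, ext_isSheaf hB hF⟩, ⟨extIso⟩⟩

theorem existsUnique_iso (hB : Opens.IsBasis B) (G G' : TopCat.Sheaf (Type u) (TopCat.of X))
    (e : ShB.Iso (ShB.restrict B G.presheaf) F) (e' : ShB.Iso (ShB.restrict B G'.presheaf) F) :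
    ∃! φ : G ⟶ G', IsIso φ ∧ ∀ (U : B) (s : G.presheaf.obj (op (U : Opens X))),
      e'.hom.app U (φ.1.app (op (U : Opens X)) s) = e.hom.app U s := by
  let b : B → Opens (TopCat.of X) := Subtype.val
  have hb : Opens.IsBasis (Set.range b) := by simpa [b] using hB
  let α : (inducedFunctor b).op ⋙ G.presheaf ⟶ (inducedFunctor b).op ⋙ G'.1 :=
    { app := fun U => TypeCat.ofHom fun s => e'.inv.app U.unop (e.hom.app U.unop s)
      naturality := fun U V i => by
        ext s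
        have h : b V.unop ≤ b U.unop := i.unop.hom.le
        exact ((e'.inv.natural h (e.hom.app U.unop s)).trans
          (congrArg (e'.inv.app V.unop) (e.hom.natural h s))).symm }
  let ψ := TopCat.Sheaf.restrictHomEquivHom G.presheaf G' hb α
  have happ : ∀ U : B, ψ.app (op (U : Opens X)) = α.app (op U) := fun U =>
    TopCat.Sheaf.extend_hom_app G.presheaf G' hb α U
  let Φ : G ⟶ G' := ⟨ψ⟩
  have hiso : IsIso Φ := by
    refine TopCat.Sheaf.isIso_iff_isIso_basis hb fun U => ?_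
    rw [happ, CategoryTheory.isIso_iff_bijective]
    refine ⟨fun s s' h => ?_, fun t => ⟨e.inv.app U (e'.hom.app U t), ?_⟩⟩
    · have := congrArg (fun z => e.inv.app U (e'.hom.app U z)) h
      simpa [α, e'.inv_hom, e.hom_inv] using this
    · show e'.inv.app U (e.hom.app U (e.inv.app U (e'.hom.app U t))) = t
      rw [e.inv_hom, e'.hom_inv]
  refine ⟨Φ, ⟨hiso, fun U s => ?_⟩, fun φ hφ => ?_⟩
  · show e'.hom.app U (ψ.app (op (U : Opens X)) s) = _
    rw [happ]
    exact e'.inv_hom U _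
  · apply CategoryTheory.Sheaf.hom_ext
    refine TopCat.Sheaf.hom_ext G.presheaf G' hb fun U => ?_
    ext s
    rw [happ]
    exact (e'.hom_inv U _).symm.trans (congrArg (e'.inv.app U) (hφ.2 U s))

end ShBLib

namespace ShBLib

variable {X : Type u} [TopologicalSpace X] {B : Set (Opens X)} {F : ShB.Pre B}

theorem stalkRel_equivalence (hB : Opens.IsBasis B) (x : X) : Equivalence (ShB.StalkRel F x) where
  refl a := ⟨a.1.1, a.1.2, le_rfl, le_rfl, rfl⟩
  symm := fun ⟨W, hx, ha, hb, h⟩ => ⟨W, hx, hb, ha, h.symm⟩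
  trans {a b c} := by
    rintro ⟨W, hx, ha, hb, h⟩ ⟨W', hx', hb', hc, h'⟩
    obtain ⟨U, hU, hxU, hle⟩ := Opens.isBasis_iff_nbhd.mp hB (U := (W : Opens X) ⊓ W') ⟨hx, hx'⟩
    obtain ⟨l, l'⟩ := le_inf_iff.mp hle
    refine ⟨⟨U, hU⟩, hxU, l.trans ha, l'.trans hc, ?_⟩
    calc F.res (l.trans ha) a.2 = F.res (V := ⟨U, hU⟩) l (F.res ha a.2) := (F.res_comp ha (W := ⟨U, hU⟩) l a.2).symm
      _ = F.res (V := ⟨U, hU⟩) l (F.res hb b.2) := by rw [h]
      _ = F.res (V := ⟨U, hU⟩) l' (F.res hb' b.2) := by rw [F.res_comp, F.res_comp]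
      _ = F.res (V := ⟨U, hU⟩) l' (F.res hc c.2) := by rw [h']
      _ = F.res (l'.trans hc) c.2 := F.res_comp hc (W := ⟨U, hU⟩) l' c.2

theorem germ_eq_iff (hB : Opens.IsBasis B) {U V : B} {x : X} (hxU : x ∈ (U : Opens X)) (hxV : x ∈ (V : Opens X))
    (s : F.obj U) (t : F.obj V) :
    ShB.germ F x hxU s = ShB.germ F x hxV t ↔
      ∃ (W : B) (_ : x ∈ (W : Opens X)) (ha : (W : Opens X) ≤ (U : Opens X)) (hb : (W : Opens X) ≤ (V : Opens X)),
        F.res ha s = F.res hb t :=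
  ⟨fun h => ((stalkRel_equivalence hB x).quot_mk_eq_iff _ _).mp h, fun h => Quot.sound h⟩

theorem germ_res {U V : B} (hle : (V : Opens X) ≤ (U : Opens X)) {x : X} (hx : x ∈ (V : Opens X))
    (s : F.obj U) : ShB.germ F x hx (F.res hle s) = ShB.germ F x (hle hx) s :=
  Quot.sound ⟨V, hx, le_rfl, hle, F.res_id V _⟩

theorem sections_germs (hB : Opens.IsBasis B) (hF : ShB.IsSheaf F) (U : B) :
    Function.Injective (fun (s : F.obj U) (x : (U : Opens X)) => ShB.germ F x.1 x.2 s) ∧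
    ∀ f : ∀ x : (U : Opens X), ShB.Stalk F x.1,
      (∃ s : F.obj U, ∀ x, ShB.germ F x.1 x.2 s = f x) ↔
      ∀ x : (U : Opens X), ∃ (V : B) (hxV : x.1 ∈ (V : Opens X))
        (hVU : (V : Opens X) ≤ (U : Opens X)) (σ : F.obj V),
        ∀ (y : X) (hy : y ∈ (V : Opens X)), ShB.germ F y hy σ = f ⟨y, hVU hy⟩ := by
  have hsep : ∀ (V : B) (s t : F.obj V),
      (∀ (y : X) (hy : y ∈ (V : Opens X)), ShB.germ F y hy s = ShB.germ F y hy t) → s = t := by
    intro V s t h
    refine ext_of_cover hB hF s t fun y hy => ?_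
    obtain ⟨W, hyW, ha, hb, e⟩ := (germ_eq_iff hB hy hy s t).mp (h y hy)
    exact ⟨W, ha, hyW, e⟩
  refine ⟨fun s t h => hsep U s t fun y hy => congrFun h ⟨y, hy⟩, fun f => ⟨?_, fun h => ?_⟩⟩
  · rintro ⟨s, hs⟩ x
    exact ⟨U, x.2, le_rfl, s, fun y hy => hs ⟨y, hy⟩⟩
  · choose V hxV hVU σ hσ using h
    let S : Set B := Set.range V
    have key : ∀ (x x' : (U : Opens X)) (W : B) (hl : (W : Opens X) ≤ (V x : Opens X))
        (hr : (W : Opens X) ≤ (V x' : Opens X)), F.res hl (σ x) = F.res hr (σ x') := by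
      intro x x' W hl hr
      refine hsep W _ _ fun y hy => ?_
      rw [germ_res, germ_res, hσ x y (hl hy), hσ x' y (hr hy)]
    obtain ⟨s, hs⟩ := exists_glue hB hF U S (by rintro _ ⟨x, rfl⟩; exact hVU x)
      (fun y hy => ⟨V ⟨y, hy⟩, ⟨⟨y, hy⟩, rfl⟩, hxV ⟨y, hy⟩⟩)
      (fun W => F.res (le_of_eq (congrArg Subtype.val W.2.choose_spec.symm)) (σ W.2.choose))
      (fun W W' W'' h h' => by rw [F.res_comp, F.res_comp]; exact key _ _ _ _ _)
    refine ⟨s, fun x => ?_⟩
    have h1 := hs (V x) ⟨x, rfl⟩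
    rw [← hσ x x.1 (hxV x), ← germ_res (hVU x) (hxV x) s, h1]
    refine congrArg _ ?_
    exact (key _ x (V x) _ le_rfl).trans (F.res_id _ _)

end ShBLib

namespace ShBLib

variable {X : Type u} [TopologicalSpace X] {B : Set (Opens X)} {F : ShB.Pre B}

theorem isSheaf_iff_cofinal
    (hBi : ∀ U ∈ B, ∀ U' ∈ B, ∀ U'' ∈ B, U' ≤ U → U'' ≤ U → U' ⊓ U'' ∈ B)
    (C : ∀ U : B, Set (ShB.Cover B)) (hCU : ∀ U, ∀ c ∈ C U, c.U = U)
    (hC : ∀ (U : B) (ι : Type u) (V : ι → B), (∀ i, (V i : Opens X) ≤ (U : Opens X)) →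
      (U : Opens X) ≤ ⨆ i, (V i : Opens X) →
      ∃ c ∈ C U, ∀ i' : c.ι, ∃ i, (c.V i' : Opens X) ≤ (V i : Opens X)) :
    ShB.IsSheaf F ↔ ∀ (U : B), ∀ c ∈ C U, ∀ s : ∀ i, F.obj (c.V i),
      (∀ i j, F.res (U := c.V i) (V := ⟨(c.V i : Opens X) ⊓ c.V j,
          hBi c.U c.U.2 _ (c.V i).2 _ (c.V j).2 (c.V_le i) (c.V_le j)⟩) inf_le_left (s i) =
        F.res (U := c.V j) (V := ⟨(c.V i : Opens X) ⊓ c.V j,
          hBi c.U c.U.2 _ (c.V i).2 _ (c.V j).2 (c.V_le i) (c.V_le j)⟩) inf_le_right (s j)) →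
      ∃! t : F.obj c.U, ∀ i, F.res (c.V_le i) t = s i := by
  constructor
  · intro hF U c hc s hs
    refine hF c s fun i j k => ?_
    have := congrArg (F.res (V := c.W i j k) (le_inf (c.W_le_left i j k) (c.W_le_right i j k))) (hs i j)
    rwa [F.res_comp, F.res_comp] at this
  · intro hyp
    have hsep : ∀ (D : B) (ι : Type u) (V : ι → B) (hV : ∀ i, (V i : Opens X) ≤ (D : Opens X)),
        (D : Opens X) ≤ ⨆ i, (V i : Opens X) → ∀ t t' : F.obj D,
          (∀ i, F.res (hV i) t = F.res (hV i) t') → t = t' := by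
      intro D ι V hV hcov t t' h
      obtain ⟨c, hc, hr⟩ := hC D ι V hV hcov
      obtain rfl := hCU D c hc
      obtain ⟨t₀, -, huniq⟩ := hyp c.U c hc (fun i => F.res (c.V_le i) t)
        (fun i j => by rw [F.res_comp, F.res_comp])
      refine (huniq t fun i => rfl).trans (huniq t' fun i => ?_).symm
      obtain ⟨j, hj⟩ := hr i
      have := congrArg (F.res hj) (h j)
      rw [F.res_comp, F.res_comp] at this
      exact this.symm
    intro c₀ s hs
    obtain ⟨c, hc, hr⟩ := hC c₀.U c₀.ι c₀.V c₀.V_le c₀.V_cover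
    choose r hr using hr
    have hcU : c.U = c₀.U := hCU _ c hc
    let s' : ∀ i, F.obj (c.V i) := fun i => F.res (hr i) (s (r i))
    have hcompat : ∀ (i j : c₀.ι) (D : B) (hi : (D : Opens X) ≤ (c₀.V i : Opens X))
        (hj : (D : Opens X) ≤ (c₀.V j : Opens X)), F.res hi (s i) = F.res hj (s j) := by
      intro i j D hi hj
      refine hsep D (c₀.κ i j) (fun k => ⟨(D : Opens X) ⊓ c₀.W i j k,
        hBi c₀.U c₀.U.2 _ D.2 _ (c₀.W i j k).2 (hi.trans (c₀.V_le i))
          ((c₀.W_le_left i j k).trans (c₀.V_le i))⟩) (fun k => inf_le_left) ?_ _ _ fun k => ?_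
      · intro x hx
        obtain ⟨k, hk⟩ := Opens.mem_iSup.mp (c₀.W_cover i j ⟨hi hx, hj hx⟩)
        exact Opens.mem_iSup.mpr ⟨k, hx, hk⟩
      · rw [F.res_comp, F.res_comp]
        have := congrArg (F.res (V := ⟨(D : Opens X) ⊓ c₀.W i j k,
          hBi c₀.U c₀.U.2 _ D.2 _ (c₀.W i j k).2 (hi.trans (c₀.V_le i))
            ((c₀.W_le_left i j k).trans (c₀.V_le i))⟩) inf_le_right) (hs i j k)
        rwa [F.res_comp, F.res_comp] at this
    obtain ⟨t₁, ht₁, -⟩ := hyp c₀.U c hc s' (fun i j => by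
      rw [F.res_comp, F.res_comp]; exact hcompat _ _ _ _ _)
    let t : F.obj c₀.U := F.res (le_of_eq (congrArg Subtype.val hcU.symm)) t₁
    have ht : ∀ i, F.res ((c.V_le i).trans (le_of_eq (congrArg Subtype.val hcU))) t = F.res (hr i) (s (r i)) :=
      fun i => by rw [F.res_comp]; exact ht₁ i
    refine ⟨t, fun j => ?_, fun t' ht' => ?_⟩
    · refine hsep (c₀.V j) c.ι (fun i => ⟨(c₀.V j : Opens X) ⊓ c.V i,
        hBi c₀.U c₀.U.2 _ (c₀.V j).2 _ (c.V i).2 (c₀.V_le j)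
          ((c.V_le i).trans (le_of_eq (congrArg Subtype.val hcU)))⟩) (fun i => inf_le_left) ?_ _ _ fun i => ?_
      · intro x hx
        obtain ⟨i, hi⟩ := Opens.mem_iSup.mp (c.V_cover
          ((le_of_eq (congrArg Subtype.val hcU.symm)) (c₀.V_le j hx)))
        exact Opens.mem_iSup.mpr ⟨i, hx, hi⟩
      · rw [F.res_comp]
        have := congrArg (F.res (V := ⟨(c₀.V j : Opens X) ⊓ c.V i,
          hBi c₀.U c₀.U.2 _ (c₀.V j).2 _ (c.V i).2 (c₀.V_le j)
            ((c.V_le i).trans (le_of_eq (congrArg Subtype.val hcU)))⟩) inf_le_right) (ht i)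
        exact (F.res_comp _ _ t).symm.trans (this.trans ((F.res_comp _ _ _).trans (hcompat _ _ _ _ _)))
    · refine hsep c₀.U c.ι c.V (fun i => (c.V_le i).trans (le_of_eq (congrArg Subtype.val hcU))) ?_ _ _ fun i => ?_
      · exact (le_of_eq (congrArg Subtype.val hcU.symm)).trans c.V_cover
      · rw [ht i]
        have := congrArg (F.res (hr i)) (ht' (r i))
        rwa [F.res_comp] at this

end ShBLib
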